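import Mathlib.RingTheory.Regular.RegularSequence
import Mathlib.RingTheory.Filtration
import Mathlib.LinearAlgebra.TensorProduct.RightExactness
import Mathlib.RingTheory.Flat.Basic

/-!
# Weakly regular sequences: extensions and separated filtrations
-/

set_option autoImplicit false
universe u

open RingTheory.Sequence Pointwise

namespace Groth.Agent.NormFlatReg

variable {R : Type u} [CommRing R]

theorem isWeaklyRegular_of_exact : ∀ (rs : List R) (M' M M'' : Type u) [AddCommGroup M'] [Module R M']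
    [AddCommGroup M] [Module R M] [AddCommGroup M''] [Module R M''] (f : M' →ₗ[R] M) (g : M →ₗ[R] M''),
    Function.Injective f → Function.Exact f g → Function.Surjective g →
    IsWeaklyRegular M' rs → IsWeaklyRegular M'' rs → IsWeaklyRegular M rs := by
  intro rs
  induction rs with
  | nil => intros; exact .nil _ _
  | cons r rs ih =>
    intro M' M M'' _ _ _ _ _ _ f g hf hfg hg h1 h2
    rw [isWeaklyRegular_cons_iff] at h1 h2 ⊢
    refine ⟨isSMulRegular_of_range_eq_ker hf hfg.linearMap_ker_eq.symm h1.1 h2.1, ?_⟩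
    refine ih _ _ _ (QuotSMulTop.map r f) (QuotSMulTop.map r g) ?_ (QuotSMulTop.map_exact r hfg hg)
      (QuotSMulTop.map_surjective r hg) h1.2 h2.2
    refine (injective_iff_map_eq_zero _).2 fun z hz => ?_
    obtain ⟨m, rfl⟩ := Submodule.Quotient.mk_surjective _ z
    have hz' : f m ∈ r • (⊤ : Submodule R M) := (Submodule.Quotient.mk_eq_zero _).1 hz
    obtain ⟨y, -, hy⟩ := (Submodule.mem_smul_pointwise_iff_exists _ _ _).1 hz'
    have hgy : g y = 0 := h2.1.right_eq_zero_of_smul (by rw [← map_smul, hy, hfg.apply_apply_eq_zero])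
    obtain ⟨z, rfl⟩ := (hfg y).1 hgy
    refine (Submodule.Quotient.mk_eq_zero _).2 ?_
    rw [show m = r • z from hf (by rw [map_smul, hy])]
    exact Submodule.smul_mem_pointwise_smul _ _ _ Submodule.mem_top

theorem isWeaklyRegular_of_filtration [IsNoetherianRing R] [IsLocalRing R] (J : Ideal R) (hJ : J ≠ ⊤) :
    ∀ (rs : List R) (M : Type u) [AddCommGroup M] [Module R M] [Module.Finite R M],
      (∀ m : ℕ, IsWeaklyRegular (M ⧸ J ^ m • (⊤ : Submodule R M)) rs) → IsWeaklyRegular M rs := by
  intro rs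
  induction rs with
  | nil => intros; exact .nil _ _
  | cons r rs ih =>
    intro M _ _ _ h
    rw [isWeaklyRegular_cons_iff]
    refine ⟨IsSMulRegular.of_right_eq_zero_of_smul fun x hx => ?_, ?_⟩
    · have hmem : x ∈ ⨅ m : ℕ, J ^ m • (⊤ : Submodule R M) := (Submodule.mem_iInf _).2 fun m => by
        refine (Submodule.Quotient.mk_eq_zero _).1 (((isWeaklyRegular_cons_iff _ r rs).1 (h m)).1.right_eq_zero_of_smul ?_)
        rw [← Submodule.Quotient.mk_smul, hx, Submodule.Quotient.mk_zero]
      rw [J.iInf_pow_smul_eq_bot_of_isLocalRing hJ] at hmem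
      exact (Submodule.mem_bot R).1 hmem
    · refine ih _ fun m => ?_
      let g : QuotSMulTop r M →ₗ[R] QuotSMulTop r (M ⧸ J ^ m • (⊤ : Submodule R M)) :=
        QuotSMulTop.map r (J ^ m • (⊤ : Submodule R M)).mkQ
      have hg : Function.Surjective g := QuotSMulTop.map_surjective r (Submodule.mkQ_surjective _)
      have hker : LinearMap.ker g = J ^ m • (⊤ : Submodule R (QuotSMulTop r M)) := by
        rw [(QuotSMulTop.map_exact r (LinearMap.exact_subtype_mkQ (J ^ m • (⊤ : Submodule R M)))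
          (Submodule.mkQ_surjective _)).linearMap_ker_eq,
          show (⊤ : Submodule R (QuotSMulTop r M)) = Submodule.map (r • (⊤ : Submodule R M)).mkQ ⊤ from by
            rw [Submodule.map_top, Submodule.range_mkQ],
          ← Submodule.map_smul'']
        apply le_antisymm
        · rintro _ ⟨z, rfl⟩
          obtain ⟨⟨w, hw⟩, rfl⟩ := Submodule.Quotient.mk_surjective _ z
          exact ⟨w, hw, rfl⟩
        · rintro _ ⟨w, hw, rfl⟩
          exact ⟨Submodule.Quotient.mk ⟨w, hw⟩, rfl⟩
      exact ((Submodule.quotEquivOfEq _ _ hker.symm).trans (LinearMap.quotKerEquivOfSurjective g hg)).isWeaklyRegular_congr rs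
        |>.2 ((isWeaklyRegular_cons_iff _ r rs).1 (h m)).2

theorem isWeaklyRegular_gr (J : Ideal R) (M : Type u) [AddCommGroup M] [Module R M] [Module (R ⧸ J) M]
    [IsScalarTower R (R ⧸ J) M] [Module.Flat (R ⧸ J) M] (fs : List R)
    (h : IsWeaklyRegular (R ⧸ J) fs) : IsWeaklyRegular M fs := by
  rw [← isWeaklyRegular_map_algebraMap_iff (R ⧸ J) (R ⧸ J) fs] at h
  rw [← isWeaklyRegular_map_algebraMap_iff (R ⧸ J) M fs]
  exact ((TensorProduct.rid (R ⧸ J) M).isWeaklyRegular_congr _).1 h.isWeaklyRegular_lTensor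

theorem comap_pow_succ (J : Ideal R) (k : ℕ) :
    Submodule.comap (J ^ k).subtype (J ^ (k + 1)) = J • (⊤ : Submodule R ↥(J ^ k)) := by
  have : Submodule.map (J ^ k).subtype (J • ⊤) = J ^ (k + 1) := by
    rw [Submodule.map_smul'', Submodule.map_top, Submodule.range_subtype, smul_eq_mul, pow_succ']
  rw [← this, Submodule.comap_map_eq_of_injective (Submodule.injective_subtype _)]

theorem isWeaklyRegular_trunc (J : Ideal R) (fs : List R)
    (hgr : ∀ k, IsWeaklyRegular (↥(J ^ k) ⧸ (J • (⊤ : Submodule R ↥(J ^ k)))) fs) :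
    ∀ (m k : ℕ), IsWeaklyRegular (↥(J ^ k) ⧸ Submodule.comap (J ^ k).subtype (J ^ (k + m))) fs := by
  intro m
  induction m with
  | zero =>
    intro k
    have : Subsingleton (↥(J ^ k) ⧸ Submodule.comap (J ^ k).subtype (J ^ (k + 0))) :=
      Submodule.Quotient.subsingleton_iff.2 (by rw [add_zero, Submodule.comap_subtype_self])
    clear hgr
    induction fs generalizing k with
    | nil => exact .nil _ _
    | cons r rs _ =>
      rw [isWeaklyRegular_iff]
      intro i hi
      exact fun a b _ => Subsingleton.elim _ _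
  | succ m ih =>
    intro k
    let incl : ↥(J ^ (k + 1)) →ₗ[R] ↥(J ^ k) := Submodule.inclusion (Ideal.pow_le_pow_right (Nat.le_succ k))
    let f : (↥(J ^ (k + 1)) ⧸ Submodule.comap (J ^ (k + 1)).subtype (J ^ (k + 1 + m))) →ₗ[R]
        (↥(J ^ k) ⧸ Submodule.comap (J ^ k).subtype (J ^ (k + (m + 1)))) :=
      Submodule.mapQ _ _ incl (fun x hx => by
        show (x : R) ∈ J ^ (k + (m + 1))
        rw [show k + (m + 1) = k + 1 + m by omega]; exact hx)
    let g : (↥(J ^ k) ⧸ Submodule.comap (J ^ k).subtype (J ^ (k + (m + 1)))) →ₗ[R]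
        (↥(J ^ k) ⧸ (J • (⊤ : Submodule R ↥(J ^ k)))) :=
      Submodule.factor (by
        rw [← comap_pow_succ]
        exact Submodule.comap_mono (Ideal.pow_le_pow_right (by omega)))
    refine isWeaklyRegular_of_exact fs _ _ _ f g ?_ ?_ (Submodule.factor_surjective _) (ih (k + 1)) (hgr k)
    · refine (injective_iff_map_eq_zero _).2 fun z hz => ?_
      obtain ⟨x, rfl⟩ := Submodule.Quotient.mk_surjective _ z
      have hz' : (x : R) ∈ J ^ (k + (m + 1)) :=
        (Submodule.Quotient.mk_eq_zero (Submodule.comap (J ^ k).subtype (J ^ (k + (m + 1)))) (x := incl x)).1 hz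
      refine (Submodule.Quotient.mk_eq_zero _).2 ?_
      show (x : R) ∈ J ^ (k + 1 + m)
      rwa [show k + 1 + m = k + (m + 1) by omega]
    · intro z
      obtain ⟨x, rfl⟩ := Submodule.Quotient.mk_surjective _ z
      constructor
      · intro h
        have h' : x ∈ J • (⊤ : Submodule R ↥(J ^ k)) := (Submodule.Quotient.mk_eq_zero _).1 h
        rw [← comap_pow_succ] at h'
        exact ⟨Submodule.Quotient.mk ⟨x.1, h'⟩, rfl⟩
      · rintro ⟨w, hw⟩
        obtain ⟨y, rfl⟩ := Submodule.Quotient.mk_surjective _ w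
        rw [← hw]
        refine (Submodule.Quotient.mk_eq_zero _).2 ?_
        rw [← comap_pow_succ]
        exact y.2

theorem main [IsNoetherianRing R] [IsLocalRing R] (J : Ideal R) (hJ : J ≠ ⊤)
    (hflat : ∀ k : ℕ, Module.Flat (R ⧸ J) (↥(J ^ k) ⧸ (J • (⊤ : Submodule R ↥(J ^ k)))))
    (fs : List R) (hreg : IsWeaklyRegular (R ⧸ J) fs) (k : ℕ) :
    IsWeaklyRegular (↥(J ^ k)) fs ∧ IsWeaklyRegular (↥(J ^ k) ⧸ (J • (⊤ : Submodule R ↥(J ^ k)))) fs := by
  have hgr : ∀ k, IsWeaklyRegular (↥(J ^ k) ⧸ (J • (⊤ : Submodule R ↥(J ^ k)))) fs := fun k => by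
    have := hflat k
    exact isWeaklyRegular_gr J _ fs hreg
  refine ⟨isWeaklyRegular_of_filtration J hJ fs _ fun m => ?_, hgr k⟩
  have he : J ^ m • (⊤ : Submodule R ↥(J ^ k)) = Submodule.comap (J ^ k).subtype (J ^ (k + m)) := by
    have : Submodule.map (J ^ k).subtype (J ^ m • ⊤) = J ^ (k + m) := by
      rw [Submodule.map_smul'', Submodule.map_top, Submodule.range_subtype, smul_eq_mul, ← pow_add, add_comm]
    rw [← this, Submodule.comap_map_eq_of_injective (Submodule.injective_subtype _)]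
  rw [(Submodule.quotEquivOfEq _ _ he).isWeaklyRegular_congr]
  exact isWeaklyRegular_trunc J fs hgr m k

end Groth.Agent.NormFlatReg
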